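import Groth.Prelude.Def_LefMon
import Groth.Agent.EtFound.PullExt
import Groth.Agent.EtMVLib.HpullApply

/-! Functoriality of the pullback of cohomology with constant coefficients. -/

universe u

open CategoryTheory CategoryTheory.Limits AlgebraicGeometry Opposite CategoryTheory.Abelian

namespace Groth.Agent.HmapLib

open Groth.Agent.EtMVLib

set_option backward.isDefEq.respectTransparency.types false
set_option maxHeartbeats 400000

variable {U X W : Scheme.{u}} (j : U ⟶ X) (w : W ⟶ X) (k : W ⟶ U) (e : k ≫ j = w) (M : Type) [AddCommGroup M]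

theorem pullConst_comp :
    (EtCore.pullConst k M).inv ≫ (EtCoh.pull k).map (EtCore.pullConst j M).inv ≫
      (θ j w k e).hom.app (EtCoh.const X M) = (EtCore.pullConst w M).inv := by
  apply ((EtCore.constAdj W).homEquiv _ _).injective
  have n1 := (pullSec k).naturality (EtCore.pullConst j M).inv
  have hU : (EtCore.constAdj U).unit.app (AddCommGrpCat.of (ULift.{u + 1} M)) ≫
      (EtCore.gsec U).map (EtCore.pullConst j M).inv = _ :=
    ((EtCore.constAdj U).homEquiv_unit _ _ (EtCore.pullConst j M).inv).symm.trans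
      (homEquiv_pullConst_inv j M)
  set c := (EtCore.pullConst j M).inv
  set t := (θ j w k e).hom.app (EtCoh.const X M)
  refine ((EtCore.constAdj W).homEquiv_naturality_right _ _).trans ?_
  refine (eq_whisker (homEquiv_pullConst_inv k M) _).trans ?_
  refine (whisker_eq _ (Functor.map_comp (EtCore.gsec W) _ _)).trans ?_
  refine ((Category.assoc _ _ _).trans (whisker_eq _
    ((Category.assoc _ _ _).symm.trans (eq_whisker n1.symm _)))).trans ?_
  refine ((whisker_eq _ (Category.assoc _ _ _)).trans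
    ((Category.assoc _ _ _).symm.trans (eq_whisker hU _))).trans ?_
  refine ((Category.assoc _ _ _).trans (whisker_eq _ (pullSec_θ j w k e _))).trans ?_
  exact (homEquiv_pullConst_inv w M).symm

theorem pullConst_hom_comp :
    (EtCoh.pull k).map (EtCore.pullConst j M).hom ≫ (EtCore.pullConst k M).hom =
      (θ j w k e).hom.app (EtCoh.const X M) ≫ (EtCore.pullConst w M).hom := by
  rw [← Iso.comp_inv_eq, ← pullConst_comp j w k e M]
  simp [← Functor.map_comp_assoc]

theorem HF_map {A B : EtCoh.Ab X} (a : A ⟶ B) (n : ℕ) (z : EtCoh.H X A n) :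
    ((EtCoh.HF X n).map a).hom z = z.comp (Ext.mk₀ a) (add_zero n) := rfl

theorem Hpull_naturality [PreservesFiniteLimits (EtCoh.pull k)] {A B : EtCoh.Ab U} (a : A ⟶ B) (q : ℕ)
    (x : EtCoh.H U A q) :
    EtCore.Hpull k B q (x.comp (Ext.mk₀ a) (add_zero q)) =
      (EtCore.Hpull k A q x).comp (Ext.mk₀ ((EtCoh.pull k).map a)) (add_zero q) := by
  rw [EtMVLib.Hpull_apply, EtMVLib.Hpull_apply, Ext.mapExactFunctor_comp, Ext.mapExactFunctor_mk₀,
    Ext.comp_assoc_of_third_deg_zero]

include e in
/-- Pullback of cohomology with constant coefficients is functorial. -/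
theorem Hmap_comp (ℓ : ℕ) (hj : PreservesFiniteLimits (EtCoh.pull j)) (hk : PreservesFiniteLimits (EtCoh.pull k))
    (hw : PreservesFiniteLimits (EtCoh.pull w)) (r ν : ℕ) (x : EtAdic.Hmod X ℓ r ν) :
    EtAdic.Hmap ℓ w hw r ν x = EtAdic.Hmap ℓ k hk r ν (EtAdic.Hmap ℓ j hj r ν x) := by
  haveI := hj; haveI := hk; haveI := hw
  show ((EtCoh.HF W r).map _).hom _ = ((EtCoh.HF W r).map _).hom (EtCore.Hpull k _ r (((EtCoh.HF U r).map _).hom _))
  rw [HF_map, HF_map, HF_map, Hpull_naturality]
  refine (congrArg (fun z => Ext.comp z _ _) (EtFound.Hpull_comp k j w e _ _ x)).trans ?_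
  rw [Ext.comp_assoc_of_third_deg_zero,
    Ext.comp_assoc_of_third_deg_zero, Ext.mk₀_comp_mk₀, Ext.mk₀_comp_mk₀, pullConst_hom_comp j w k e]
  rfl

end Groth.Agent.HmapLib
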